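import Groth.Agent.AmpleX.Generated
import Groth.Agent.AmpleX.ExtendQS
import Groth.Agent.AmpleVan.Tw
import Groth.Agent.FlatTwist.Frame
import Groth.Agent.HomShX.Basic
import Groth.Agent.KFlatLib.Perfect.Tensor
import Groth.Prelude.Def_KSix

set_option autoImplicit false
set_option linter.style.haveILetI false
set_option backward.isDefEq.respectTransparency false
set_option backward.isDefEq.respectTransparency.types false
universe v u

open CategoryTheory CategoryTheory.Limits AlgebraicGeometry TopologicalSpace Opposite MonoidalCategory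
open Groth.Agent.H23.PicMul

namespace Groth.Agent.AmpleFam7
open Groth.Agent

variable {X : Scheme.{u}}

theorem twMap_app_tmul (W : X.Opens) {T T' : X.Modules} (φ : T ⟶ T') (P : X.Modules) (t : Γ(T, W)) (s : Γ(P, W)) :
    ((AmpleVan.tw P).map φ).app W (InvX.tmul t s) = InvX.tmul (φ.app W t) s :=
  (congrArg (fun ψ : DCoh.toP.obj T ⊗ DCoh.toP.obj P ⟶ DCoh.toP.obj ((AmpleVan.tw P).obj T') =>
    ψ.app (op W) (KFlatLib.tm t s)) (KFlatLib.unitShP_naturality (DCoh.toP.map φ ▷ DCoh.toP.obj P))).symm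

/-- generating sections over an affine open -/
theorem exists_generators {F : X.Modules} (hq : Coh.IsQCoh F) (hft : CohB1.IsFT F) {G : X.Opens} (hG : IsAffineOpen G) :
    ∃ (J : ℕ) (t : Fin J → Γ(F, G)), ∀ (x : X) (hx : x ∈ G),
      Submodule.span (X.presheaf.stalk x) (Set.range fun j => F.presheaf.germ G x hx (t j)) = ⊤ := by
  obtain ⟨J, t, ht⟩ := Submodule.fg_iff_exists_fin_generating_family.1 (QCoh.finite_of_isFT hq hft hG).fg_top
  refine ⟨J, t, fun x hx => ?_⟩
  letI := QCoh.stalkAlg (X := X) hx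
  letI := QCoh.stalkModule F hx
  haveI := QCoh.isScalarTower_stalk F hx
  haveI := QCoh.isLocalization_stalk' hG hx
  haveI := QCoh.isLocalizedModule_germLin hq hG hx
  have h1 : Submodule.localized' (X.presheaf.stalk x) (hG.primeIdealOf ⟨x, hx⟩).asIdeal.primeCompl
      (QCoh.germLin F hx) (Submodule.span Γ(X, G) (Set.range t)) = ⊤ := by
    rw [ht, Submodule.localized'_top]
  rw [Submodule.localized'_span, ← Set.range_comp] at h1
  exact h1

variable {ι : Type v} {L : ι → X.Modules}

/-- one chart: finitely many maps from a negative power detect maps out of `F` near a point -/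
theorem exists_chart (hL : KSix.IsAmpleFamily L) (F : X.Modules) (hq : Coh.IsQCoh F) (hft : CohB1.IsFT F) (x : X) :
    ∃ (U : X.Opens) (N : X.Modules) (J : ℕ) (φ : Fin J → (N ⟶ F)), x ∈ U ∧ (KSix.IsNegPower L N ∧ PicF.IsInvertible N) ∧
      ∀ {W : X.Modules} (u : F ⟶ W), (∀ j, φ j ≫ u = 0) →
        ∀ y ∈ U, RefHull.stalkMapₗ u y = 0 := by
  classical
  obtain ⟨hc, hqs, hinv, hcov⟩ := hL
  haveI := hc
  haveI := hqs
  obtain ⟨i, n, σ, hx, haff⟩ := hcov x
  let A := CohB1.tensorPow (L i) (n + 1)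
  have hA : PicF.IsInvertible A := InvX.isInvertible_tensorPow (hinv i) _
  let U := CohB1.genLocus A σ
  obtain ⟨J, t, ht⟩ := exists_generators hq hft (G := U) haff
  choose q hq' using fun j => AmpleX.exists_extend' hq hA σ (t j)
  let Q := Finset.univ.sup q + 1
  choose T hT using fun j => hq' j Q
    ((Finset.le_sup (f := q) (Finset.mem_univ j)).trans (Nat.le_succ _))
  let P := CohB1.tensorPow A Q
  have hP : PicF.IsInvertible P := InvX.isInvertible_tensorPow hA _
  obtain ⟨D, hD, ⟨e⟩⟩ := H23.PicInv.exists_inverse hP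
  obtain ⟨c⟩ := H23.PicMul.comm D P
  obtain ⟨c₁⟩ := H23.PicMul.comm (Coh.structureModule X) D
  let ε : AmpleVan.tw P ⋙ AmpleVan.tw D ≅ 𝟭 X.Modules :=
    AmpleVan.twComp P D ≪≫ (DCoh.tensorBi (X := X)).flip.mapIso e ≪≫ AmpleVan.twUnit
  let a : (AmpleVan.tw D).obj (Coh.structureModule X) ≅ D := c₁ ≪≫ AmpleVan.twUnit.app D
  let φ : Fin J → (D ⟶ F) := fun j => a.inv ≫ (AmpleVan.tw D).map (InvX.ofSect (T j)) ≫ ε.hom.app F
  refine ⟨U, D, J, φ, hx, ⟨?_, hD⟩, fun {W} u hu y hy => ?_⟩
  · refine ⟨i, (n + 1) * Q, Nat.mul_pos (Nat.succ_pos _) (Nat.succ_pos _), cl_eq_iff.1 ?_⟩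
    rw [cl_tensor, cl_tensorPow, pow_mul, ← cl_tensorPow, ← cl_tensorPow, ← cl_tensor]
    exact cl_eq_iff.2 ⟨c ≪≫ e⟩
  · haveI := AmpleVan.isEquivalence_tw hD
    have hkill : ∀ j, u.app U (t j) = 0 := by
      intro j
      have h1 : (AmpleVan.tw D).map (InvX.ofSect (T j) ≫ (AmpleVan.tw P).map u) = 0 := by
        have h := hu j
        simp only [φ, Category.assoc, Preadditive.IsIso.comp_left_eq_zero] at h
        have hn := ε.hom.naturality u
        rw [Functor.id_map] at hn
        rw [← hn, Functor.comp_map, ← Category.assoc, ← Functor.map_comp,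
          Preadditive.IsIso.comp_right_eq_zero] at h
        exact h
      haveI : (AmpleVan.tw D).Additive := Functor.additive_of_preserves_binary_products _
      have h2 : InvX.ofSect (T j) ≫ (AmpleVan.tw P).map u = 0 :=
        (AmpleVan.tw D).map_injective (h1.trans ((AmpleVan.tw D).map_zero _ _).symm)
      have h3 : ((AmpleVan.tw P).map u).app ⊤ (T j) = 0 := by
        have := congrArg InvX.one h2
        rw [show InvX.one (InvX.ofSect (T j) ≫ (AmpleVan.tw P).map u) =
          ((AmpleVan.tw P).map u).app ⊤ (InvX.one (InvX.ofSect (T j))) from rfl, InvX.one_ofSect] at this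
        exact this
      have h4 := congrArg (AModX.res _ (le_top : U ≤ ⊤)) h3
      rw [← AModX.app_res, map_zero] at h4
      erw [hT j, twMap_app_tmul] at h4
      have hfr : InvX.IsFrame (AmpleX.powElt (AModX.res A (le_top : U ≤ ⊤) (InvX.one σ)) Q) :=
        AmpleX.isFrame_powElt (AmpleX.res_genLocus_frame σ) Q
      apply (FlatTwist.bijective_tmul_frame (M := W) hfr (le_refl U)).1
      simp only [AModX.res_self]
      rw [h4]
      have := InvX.tmul_smul_left (0 : Γ(X, U)) (0 : Γ(W, U))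
        (AmpleX.powElt (AModX.res A (le_top : U ≤ ⊤) (InvX.one σ)) Q)
      rw [zero_smul, zero_smul] at this
      exact this.symm
    refine LinearMap.ext_on_range (ht y hy) fun j => ?_
    rw [RefHull.stalkMapₗ_germ, hkill j, map_zero]
    rfl

/-- finite-type quasi-coherent modules are quotients of sums of negative powers of an ample family -/
theorem exists_epi (hL : KSix.IsAmpleFamily L) (F : X.Modules) (hq : Coh.IsQCoh F) (hft : CohB1.IsFT F) :
    ∃ (M : X.Modules) (π : M ⟶ F), KSix.InAddL L M ∧ FlatMod.IsFinLocFree M ∧ Epi π := by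
  classical
  choose U N J φ hx hN hdet using fun x => exists_chart hL F hq hft x
  haveI := hL.1
  obtain ⟨S, hS⟩ := isCompact_univ.elim_finite_subcover (fun x => (U x : Set X)) (fun x => (U x).2)
    (fun x _ => Set.mem_iUnion.2 ⟨x, hx x⟩)
  let κ := Σ x : S, Fin (J x)
  let en := Fintype.equivFin κ
  let fam : Fin (Fintype.card κ) → X.Modules := fun m => N (en.symm m).1
  refine ⟨⨁ fam, biproduct.desc fun m => φ _ (en.symm m).2,
    ⟨_, fam, fun m => (hN _).1, ⟨Iso.refl _⟩⟩, ?_, ?_⟩
  · exact H23.PullPush.isFinLocFree_of_iso (biproduct.isoCoproduct fam).symm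
      (KFlatLib.isFinLocFree_sigma fam Finset.univ (fun m hm => absurd (Finset.mem_univ m) hm)
        fun m => H23.PullPush.isFinLocFree_of_isInvertible (hN _).2)
  refine Preadditive.epi_of_cancel_zero _ fun {W} u hu => HomShX.ext_stalk fun y => ?_
  rw [HomShX.stalkMapₗ_zero]
  obtain ⟨x, hxS, hy⟩ := Set.mem_iUnion₂.1 (hS (Set.mem_univ y))
  refine hdet x u (fun j => ?_) y hy
  have key : ∀ k : κ, φ k.1 k.2 ≫ u = 0 := by
    refine (en.symm.surjective.forall).2 fun m => ?_
    have h := congrArg (biproduct.ι fam m ≫ ·) hu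
    rw [biproduct.ι_desc_assoc, comp_zero] at h
    exact h
  exact key ⟨⟨x, hxS⟩, j⟩

end Groth.Agent.AmpleFam7
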